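import Cfsg.Agent.H910.S3530.T2Aux
import Cfsg.Agent.H35.S3530.NoCyc

/-!
# S3530: two primes dividing the solvable kernel, final form (helper910)
-/

set_option autoImplicit false
set_option linter.unusedVariables false
set_option linter.unusedSectionVars false

namespace Cfsg.Agent.H389.RSq

open Subgroup
open Cfsg.Agent.H389.JSq (Has)

universe u v

variable {m : ℕ} {X Y : Type u} [Group X] [Finite X] [Group Y] [Finite Y] {f : X →* Y} {D P : Subgroup X}
  {E : Subgroup Y} {H : Set ℕ → Subgroup X}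

/-- two primes `w, w'` divide the solvable subgroup `D ∩ ker f`, and `w` divides the order of a perfect `L ≤ f(D)` without
central `w`-extensions: then `D` has an element of order `w w'` -/
theorem has_of_dvd (hs : Group.IsSolvable (D ⊓ f.ker : Subgroup X)) (hodd : Odd (Nat.card (D ⊓ f.ker : Subgroup X)))
    {L : Subgroup Y} (hL : L ≤ D.map f) (hLs : IsSimpleGroup L) (hLp : ⁅L, L⁆ = L) {w w' : ℕ} (hw : w.Prime)
    (hw' : w'.Prime) (hww : w ≠ w') (hw2 : w ≠ 2) (hw'2 : w' ≠ 2) (hm : NoMult w L)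
    (h1 : w ∣ Nat.card (D ⊓ f.ker : Subgroup X)) (h2 : w' ∣ Nat.card (D ⊓ f.ker : Subgroup X))
    (h3 : w ∣ Nat.card L) : Has D (w * w') := by
  obtain ⟨P, H, C⟩ := exists_cov hs hL
  exact T2Aux.has_of_cov C hs hLp hw hw' hww hw2 hw'2
    (fun J hJ hPJ hJ1 => C.not_isCyclic hs hLp hw hm hJ hPJ hJ1) h1 h2 h3

end Cfsg.Agent.H389.RSq
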