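import Cfsg.Agent.H389.R.Ctx

/-!
# S3530: two primes dividing the solvable kernel (helper910)

`has_of_cov`: `N = D ∩ ker f` solvable with `w, w' ∣ |N|`, `P` the perfect cover of a perfect `L` with `w ∣ |L|`, the Sylow
`w`-subgroup of `P ∩ ker f` trivial or noncyclic. Then `D` has an element of order `w w'`.
-/

set_option autoImplicit false

namespace Cfsg.Agent.H389.RSq.T2Aux

open Subgroup
open Cfsg.Agent.H389.JSq (Has)
open Cfsg.Agent.H381.Tools
open Cfsg.Agent.OddOrderLocal.HallPi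
open Cfsg.Agent.OddOrderLocal

universe u v

set_option linter.unusedSectionVars false
variable {X Y : Type u} [Group X] [Finite X] [Group Y] {f : X →* Y}
  {D P : Subgroup X} {E : Subgroup Y} {H : Set ℕ → Subgroup X}

/-- elements of `D` -/
theorem has_of_mem {a b : ℕ} (ha : a.Prime) (hb : b.Prime) (hab : a ≠ b) {x y : X} (hx : x ∈ D) (hy : y ∈ D)
    (hxo : orderOf x = a) (hyo : orderOf y = b) (hxy : Commute x y) : Has D (a * b) := by
  refine Has.of_commute (x := (⟨x, hx⟩ : D)) (y := ⟨y, hy⟩) (Subtype.ext hxy) ?_ ?_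
    ((Nat.coprime_primes ha hb).mpr hab)
  · rw [← Subgroup.orderOf_coe]; exact hxo
  · rw [← Subgroup.orderOf_coe]; exact hyo

/-- a noncyclic `a`-group in `D` acting on a `b`-group in `D` -/
theorem has_of_noncyclic {a b : ℕ} (ha : a.Prime) (hb : b.Prime) (hab : a ≠ b) (ha2 : a ≠ 2) {A V : Subgroup X}
    (hA : IsPGroup a A) (hAc : ¬ IsCyclic A) (hV : IsPGroup b V) (hV1 : V ≠ ⊥) (hAV : A ≤ normalizer (V : Set X))
    (hAD : A ≤ D) (hVD : V ≤ D) : Has D (a * b) := by
  obtain ⟨e, he, heo, hf⟩ := fixed_of_noncyclic ha ha2 hA hAc hV1 (not_dvd_card hb ha hab hV) hAV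
  obtain ⟨x, hx, hxo⟩ := exists_mem_of_ne_bot hb (hV.to_le inf_le_left) hf
  rw [mem_fix] at hx
  exact has_of_mem ha hb hab (hAD he) (hVD hx.1) heo hxo hx.2

/-- Hall `{w}`-subgroups are `w`-groups -/
theorem isPGroup_of_hall {w : ℕ} (hw : w.Prime) {K N : Subgroup X} (h : Cfsg.IsPiHallOf {w} K N) :
    IsPGroup w K := (PiCoreOf.isPi_singleton_iff hw K).mp fun p hp hd => h.2.1 p hp hd

theorem has_of_cov (C : Cov f D E P H) (hs : Group.IsSolvable (D ⊓ f.ker : Subgroup X)) (hEp : ⁅E, E⁆ = E)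
    {w w' : ℕ} (hw : w.Prime) (hw' : w'.Prime) (hww : w ≠ w') (hw2 : w ≠ 2) (hw'2 : w' ≠ 2)
    (hnc : ∀ J : Subgroup X, Cfsg.IsPiHallOf {w} J (P ⊓ f.ker) → P ≤ normalizer (J : Set X) → J ≠ ⊥ → ¬ IsCyclic J)
    (h1 : w ∣ Nat.card (D ⊓ f.ker : Subgroup X)) (h2 : w' ∣ Nat.card (D ⊓ f.ker : Subgroup X))
    (h3 : w ∣ Nat.card E) : Has D (w * w') := by
  set N : Subgroup X := D ⊓ f.ker with hN
  have hND : N ≤ D := inf_le_left
  set K := H {w, w'} with hK
  set Q := H {w} with hQ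
  set Q' := H {w'} with hQ'
  have hKN : K ≤ N := (C.hall _).1
  have hQN : Q ≤ N := (C.hall _).1
  have hQ'N : Q' ≤ N := (C.hall _).1
  have hQK : Q ≤ K := C.mono _ _ (by simp)
  have hQ'K : Q' ≤ K := C.mono _ _ (by simp)
  have hQp : IsPGroup w Q := isPGroup_of_hall hw (C.hall _)
  have hQ'p : IsPGroup w' Q' := isPGroup_of_hall hw' (C.hall _)
  have hwQ : w ∣ Nat.card Q := prime_dvd_card (C.hall {w}) hw (by simp) h1
  have hwQ' : w' ∣ Nat.card Q' := prime_dvd_card (C.hall {w'}) hw' (by simp) h2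
  have hPp : ⁅P, P⁆ = P := C.perfect hEp
  have hKs : Group.IsSolvable K :=
    haveI := hs
    Group.isSolvable_of_isSolvable_injective (f := Subgroup.inclusion hKN) (Subgroup.inclusion_injective _)
  have hK1 : K ≠ ⊥ := by
    intro h
    have := hwQ.trans (card_dvd_of_le hQK)
    rw [h, card_bot] at this
    exact hw.one_lt.ne' (Nat.dvd_one.mp this)
  -- elements of `P` of order `w`
  have hwP : w ∣ Nat.card P := by
    have h4 : Nat.card E ∣ Nat.card P := by
      have h5 := C.map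
      rw [← h5]
      exact card_map_dvd P f
    exact h3.trans h4
  obtain ⟨q, hq, V, hVK, hV1, hVq, hVn⟩ := FitCores.exists_pgroup_le_of_solvable hKs hK1
  have hqK : q ∣ Nat.card K := FitCores.dvd_card_of_ne_bot hq hVq hV1 hVK
  have hqw : q = w ∨ q = w' := by
    have := (C.hall {w, w'}).2.1 q hq hqK
    simpa using this
  have hVD : V ≤ D := hVK.trans (hKN.trans hND)
  have hKV : K ≤ normalizer (V : Set X) := le_normalizer.trans hVn
  have hPV : P ≤ normalizer (V : Set X) := (C.norm _).trans hVn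
  rcases hqw with rfl | rfl
  · -- `O_w(K) ≠ 1`
    by_cases hc : IsCyclic Q'
    · have h4 := le_centralizer_of_cyclic hPp hc (C.norm _)
      obtain ⟨x, hx, hxo⟩ := exists_mem_of_dvd hw hwP
      obtain ⟨z, hz, hzo⟩ := exists_mem_of_dvd hw' hwQ'
      exact has_of_mem hw hw' hww (C.le hx) (hND (hQ'N hz)) hxo hzo
        (mem_centralizer_iff.mp (h4 hx) z hz).symm
    · rw [mul_comm]
      exact has_of_noncyclic hw' hw hww.symm hw'2 hQ'p hc hVq hV1 (hQ'K.trans hKV) (hQ'N.trans hND) hVD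
  · -- `O_{w'}(K) ≠ 1`
    by_cases hc : IsCyclic Q
    · have h4 := le_centralizer_of_cyclic hPp hc (C.norm _)
      obtain ⟨J, hJ⟩ := C.exists_J hs
      obtain ⟨hJ1, hJ2⟩ := hJ w
      by_cases hJb : J w = ⊥
      · -- `w ∤ |P ∩ ker f|`
        have h5 : ¬ w ∣ Nat.card (P ⊓ f.ker : Subgroup X) := by
          intro hd
          have := prime_dvd_card hJ1 hw (by simp) hd
          rw [hJb, card_bot] at this
          exact hw.one_lt.ne' (Nat.dvd_one.mp this)
        obtain ⟨x, hx, hxo⟩ := exists_mem_of_dvd hw hwP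
        obtain ⟨z, hz, hzo⟩ := exists_mem_of_dvd hw hwQ
        have hxz : Commute x z := (mem_centralizer_iff.mp (h4 hx) z hz).symm
        have hzk : z ∈ f.ker := (hQN hz).2
        have hne : x ∉ zpowers z := by
          intro h6
          have h7 : x ∈ P ⊓ f.ker := ⟨hx, (zpowers_le.mpr hzk) h6⟩
          exact h5 (dvd_card_of_mem h7 hxo)
        obtain ⟨e, he, heo, hf⟩ := exists_fixed hw hzo hxo hxz.symm hne V (not_dvd_card hq hw hww hVq) hV1
          ((hQK.trans hKV) hz) (hPV hx)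
        obtain ⟨y, hy, hyo⟩ := exists_mem_of_ne_bot hq (hVq.to_le inf_le_left) hf
        rw [mem_fix] at hy
        have heD : e ∈ D := (sup_le (zpowers_le.mpr (hND (hQN hz))) (zpowers_le.mpr (C.le hx))) he
        exact has_of_mem hw hq hww heD (hVD hy.1) heo hyo hy.2
      · have h5 := hnc (J w) hJ1 hJ2 hJb
        have hJP : J w ≤ P := hJ1.1.trans inf_le_left
        exact has_of_noncyclic hw hq hww hw2 (isPGroup_of_hall hw hJ1) h5 hVq hV1 (hJP.trans hPV)
          (hJP.trans C.le) hVD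
    · exact has_of_noncyclic hw hq hww hw2 hQp hc hVq hV1 (hQK.trans hKV) (hQN.trans hND) hVD

end Cfsg.Agent.H389.RSq.T2Aux
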